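import Mathlib
import Groth.Agent.CotTLib.Smooth
import Groth.Agent.RegLocLib.Basic

/-! For an ideal `J` which is locally generated by regular sequences, the kernel of the
multiplication `J ⊗ J → R` consists of antisymmetric tensors; the diagonal ideal of a smooth
algebra over a field is such an ideal. -/

set_option autoImplicit false

noncomputable section

open TensorProduct

namespace Groth.Agent.DiagThreeLib

open CotT Groth.Agent.CotTLib

universe u v

section Anti

variable {P : Type v} [CommRing P] (J : Ideal P)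

def phi : (J →₀ J) →ₗ[P] J ⊗[P] J := Finsupp.lsum P fun s => TensorProduct.mk P J J s

@[simp]
theorem phi_single (s v : J) : phi J (Finsupp.single s v) = s ⊗ₜ v := by simp [phi]

theorem phi_surjective : Function.Surjective (phi J) := by
  intro t
  induction t using TensorProduct.induction_on with
  | zero => exact ⟨0, map_zero _⟩
  | tmul a b => exact ⟨Finsupp.single a b, phi_single J a b⟩
  | add a b ha hb =>
    obtain ⟨p, rfl⟩ := ha
    obtain ⟨q, rfl⟩ := hb
    exact ⟨p + q, map_add _ _ _⟩

def mulJ : J ⊗[P] J →ₗ[P] P := TensorProduct.lift ((LinearMap.mul P P).compl₁₂ J.subtype J.subtype)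

@[simp]
theorem mulJ_tmul (a b : J) : mulJ J (a ⊗ₜ b) = (a : P) * b := rfl

def down : (J →₀ J) →ₗ[P] (J →₀ P) := Finsupp.mapRange.linearMap J.subtype

theorem down_injective : Function.Injective (down J) :=
  Finsupp.mapRange_injective _ (map_zero _) Subtype.val_injective

/-- The combination `∑ c s • s`, as an element of `J`. -/
def lcJ : (J →₀ P) →ₗ[P] J := Finsupp.linearCombination P (id : J → J)

theorem coe_lcJ (p : J →₀ P) :
    (lcJ J p : P) = Finsupp.linearCombination P (Subtype.val : J → P) p := by
  rw [lcJ, ← Submodule.subtype_apply, Finsupp.apply_linearCombination]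
  rfl

/-- `p ↦ (s ↦ p s • j)`. -/
def scaled (j : J) : (J →₀ P) →ₗ[P] (J →₀ J) := Finsupp.mapRange.linearMap (LinearMap.toSpanSingleton P J j)

theorem down_scaled (j : J) (p : J →₀ P) : down J (scaled J j p) = (j : P) • p := by
  ext s
  simp [down, scaled, mul_comm]

theorem phi_scaled (j : J) (p : J →₀ P) : phi J (scaled J j p) = lcJ J p ⊗ₜ j := by
  induction p using Finsupp.induction_linear with
  | zero => simp
  | add a b ha hb => simp only [map_add, ha, hb, TensorProduct.add_tmul]
  | single s c =>
    rw [show scaled J j (Finsupp.single s c) = Finsupp.single s (c • j) from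
      Finsupp.mapRange_single (hf := map_zero (LinearMap.toSpanSingleton P J j)), phi_single, lcJ,
      Finsupp.linearCombination_single, id, TensorProduct.tmul_smul, TensorProduct.smul_tmul']

theorem anti_of_mulJ_eq_zero
    (h : ∀ (p : Ideal P) [p.IsMaximal], ∃ (n : ℕ) (f : Fin n → Localization.AtPrime p), RegFam f ∧
      Ideal.span (Set.range f) = J.map (algebraMap P (Localization.AtPrime p)))
    (t : J ⊗[P] J) (ht : mulJ J t = 0) : t + TensorProduct.comm P J J t = 0 := by
  obtain ⟨q, rfl⟩ := phi_surjective J t
  have hmul : ∀ q, mulJ J (phi J q) = Finsupp.linearCombination P (Subtype.val : J → P) (down J q) := by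
    intro q
    induction q using Finsupp.induction_linear with
    | zero => simp
    | add a b ha hb => simp only [map_add, ha, hb]
    | single s c =>
      rw [phi_single, show down J (Finsupp.single s c) = Finsupp.single s (c : P) from
        Finsupp.mapRange_single (hf := map_zero J.subtype), Finsupp.linearCombination_single,
        mulJ_tmul, smul_eq_mul, mul_comm]
  have hspan : Ideal.span (Set.range (Subtype.val : J → P)) = J := by
    rw [Subtype.range_coe_subtype]
    exact Ideal.span_eq J
  have hq : down J q ∈ trivR (Subtype.val : J → P) := by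
    refine CotTLib.mem_trivR_of_locally _ (fun p _ => ?_) (by rw [← hmul, ht]) fun s => ?_
    · rw [hspan]; exact h p
    · rw [hspan]; exact (q s).2
  have key : ∀ y ∈ trivR (Subtype.val : J → P), ∃ q' : J →₀ J, down J q' = y ∧
      phi J q' + TensorProduct.comm P J J (phi J q') = 0 := by
    intro y hy
    induction hy using Submodule.span_induction with
    | mem y hy =>
      obtain ⟨a, b, rfl⟩ := hy
      refine ⟨scaled J (lcJ J a) b - scaled J (lcJ J b) a, ?_, ?_⟩
      · rw [map_sub, down_scaled, down_scaled, coe_lcJ, coe_lcJ]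
      · rw [map_sub, phi_scaled, phi_scaled, map_sub, TensorProduct.comm_tmul,
          TensorProduct.comm_tmul]
        abel
    | zero => exact ⟨0, map_zero _, by simp⟩
    | add a b _ _ ha hb =>
      obtain ⟨a', rfl, ha⟩ := ha
      obtain ⟨b', rfl, hb⟩ := hb
      refine ⟨a' + b', map_add _ _ _, ?_⟩
      rw [map_add, map_add, add_add_add_comm, ha, hb, add_zero]
    | smul c a _ ha =>
      obtain ⟨a', rfl, ha⟩ := ha
      exact ⟨c • a', map_smul _ _ _, by rw [map_smul, map_smul, ← smul_add, ha, smul_zero]⟩
  obtain ⟨q', hq', hanti⟩ := key _ hq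
  rwa [down_injective J hq'] at hanti

end Anti

section Smooth

theorem isRegularLocalRing_of_smooth (k : Type u) [Field k] (R : Type v) [CommRing R] [Algebra k R]
    [Algebra.Smooth k R] (q : Ideal R) [q.IsPrime] : IsRegularLocalRing (Localization.AtPrime q) := by
  haveI : Nontrivial R := ⟨0, 1, fun h => Ideal.IsPrime.ne_top ‹_› (Ideal.eq_top_iff_one q |>.mpr
    (h ▸ q.zero_mem))⟩
  haveI : Small.{v} k := small_of_injective (algebraMap k R).injective
  let k₀ := Shrink.{v} k
  let e : k₀ ≃ₐ[k] k := Shrink.algEquiv k k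
  letI : Algebra k₀ R := ((algebraMap k R).comp e.toRingEquiv.toRingHom).toAlgebra
  haveI : IsScalarTower k k₀ R := IsScalarTower.of_algebraMap_eq fun x => by
    show algebraMap k R x = algebraMap k R (e (algebraMap k k₀ x))
    rw [e.commutes, Algebra.algebraMap_self_apply]
  haveI : Algebra.FormallyEtale k k₀ := Algebra.FormallyEtale.of_equiv e.symm
  haveI : Algebra.FormallySmooth k₀ R := Algebra.FormallySmooth.of_restrictScalars k k₀ R
  haveI : Algebra.FiniteType k₀ R := Algebra.FiniteType.of_restrictScalars_finiteType k k₀ R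
  haveI : Algebra.FinitePresentation k₀ R := Algebra.FinitePresentation.of_finiteType.1 inferInstance
  haveI : Algebra.Smooth k₀ R := ⟨inferInstance, inferInstance⟩
  haveI : Algebra.IsSmoothAt k₀ q := inferInstanceAs (Algebra.FormallySmooth k₀ (Localization q.primeCompl))
  haveI : IsRegularRing k₀ := RegLocLib.isRegularRing_of_isRegularLocalRing k₀
  exact RegLocLib.mem_regLocus_of_smoothAt ⟨q, inferInstance⟩
    (RegLocLib.regLocus_eq_univ_of_isRegularRing k₀ ▸ Set.mem_univ _)

variable (k : Type u) [Field k] (A : Type v) [CommRing A] [Algebra k A]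

theorem exists_regFam_diag [Algebra.Smooth k A] (p : Ideal (A ⊗[k] A)) [p.IsMaximal] :
    ∃ (n : ℕ) (f : Fin n → Localization.AtPrime p), RegFam f ∧ Ideal.span (Set.range f) =
      (KaehlerDifferential.ideal k A).map (algebraMap (A ⊗[k] A) (Localization.AtPrime p)) := by
  set J := KaehlerDifferential.ideal k A
  let L := Localization.AtPrime p
  by_cases hJ : J ≤ p
  swap
  · have htop : J.map (algebraMap (A ⊗[k] A) L) = ⊤ := by
      obtain ⟨x, hx, hxp⟩ := SetLike.not_le_iff_exists.mp hJ
      exact Ideal.eq_top_of_isUnit_mem _ (Ideal.mem_map_of_mem _ hx)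
        (IsLocalization.map_units L (⟨x, hxp⟩ : p.primeCompl))
    refine ⟨1, fun _ => 1, fun i z hz => by simpa using hz, ?_⟩
    rw [htop, Ideal.eq_top_iff_one]
    exact Ideal.subset_span ⟨0, rfl⟩
  haveI : Algebra.Smooth k (A ⊗[k] A) := Algebra.Smooth.comp k A _
  haveI hL : IsRegularLocalRing L := isRegularLocalRing_of_smooth k _ p
  let B := (A ⊗[k] A) ⧸ J
  let e : B ≃ₐ[k] A := Ideal.quotientKerAlgEquivOfSurjective
    (f := Algebra.TensorProduct.lmul' k (S := A)) fun a => ⟨a ⊗ₜ 1, by simp⟩
  haveI : Algebra.Smooth k B := Algebra.Smooth.of_equiv e.symm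
  let pB : Ideal B := p.map (Ideal.Quotient.mk J)
  haveI : pB.IsPrime := Ideal.map_isPrime_of_surjective Ideal.Quotient.mk_surjective
    (by rwa [Ideal.mk_ker])
  haveI hB : IsRegularLocalRing (Localization.AtPrime pB) := isRegularLocalRing_of_smooth k B pB
  have hM : Algebra.algebraMapSubmonoid B p.primeCompl = pB.primeCompl := by
    ext b
    obtain ⟨a, rfl⟩ := Ideal.Quotient.mk_surjective b
    constructor
    · rintro ⟨a', ha', h⟩
      rw [Ideal.mem_primeCompl_iff, Ideal.mem_map_iff_of_surjective _ Ideal.Quotient.mk_surjective]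
      rintro ⟨c, hc, hca⟩
      refine ha' ?_
      have : c - a' ∈ J := Ideal.Quotient.eq.mp (hca.trans h.symm)
      simpa using p.sub_mem hc (hJ this)
    · intro h
      exact ⟨a, fun ha => h (Ideal.mem_map_of_mem _ ha), rfl⟩
  haveI : IsLocalization pB.primeCompl (L ⧸ J.map (algebraMap (A ⊗[k] A) L)) := hM ▸ inferInstance
  haveI : IsRegularLocalRing (L ⧸ J.map (algebraMap (A ⊗[k] A) L)) :=
    IsRegularLocalRing.of_ringEquiv (R := Localization.AtPrime pB) (IsLocalization.algEquiv pB.primeCompl (Localization.AtPrime pB)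
      (L ⧸ J.map (algebraMap (A ⊗[k] A) L))).toRingEquiv
  exact CotTLib.exists_regFam_of_quot_regular _

theorem anti_diag [Algebra.Smooth k A]
    (t : KaehlerDifferential.ideal k A ⊗[A ⊗[k] A] KaehlerDifferential.ideal k A)
    (ht : mulJ _ t = 0) : t + TensorProduct.comm _ _ _ t = 0 :=
  anti_of_mulJ_eq_zero _ (fun p _ => exists_regFam_diag k A p) t ht

end Smooth

end Groth.Agent.DiagThreeLib
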