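import Groth.Agent.DiagThreeLib.Sym

/-! Invariants in the intersection of the three diagonal ideals of a triple tensor power. -/

set_option autoImplicit false

noncomputable section

open TensorProduct

namespace Groth.Agent.DiagThreeLib

universe u v w

variable (k : Type u) [Field k] (A : Type v) [CommRing A] [Algebra k A]

local notation "C" => (⨂[k] _ : Fin 3, A)
local notation "P" => (A ⊗[k] A)
local notation "J" => KaehlerDifferential.ideal k A

/-- `a` in factor `i`. -/
def s (i : Fin 3) : A →ₐ[k] C := PiTensorProduct.singleAlgHom (R := k) (A := fun _ : Fin 3 => A) i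

theorem tprod_eq_prod (f : Fin 3 → A) : PiTensorProduct.tprod k f = s k A 0 (f 0) * s k A 1 (f 1) * s k A 2 (f 2) := by
  conv_lhs => rw [← Finset.univ_prod_mulSingle f, PiTensorProduct.tprod_prod, Fin.prod_univ_three]
  rfl

/-- The universal property of the triple tensor power. -/
def lift3 {S : Type w} [CommRing S] [Algebra k S] (g : Fin 3 → (A →ₐ[k] S)) : C →ₐ[k] S :=
  PiTensorProduct.liftAlgHom ((MultilinearMap.mkPiAlgebra k (Fin 3) S).compLinearMap fun i => (g i).toLinearMap)
    (by simp)
    (fun x y => by simp [Finset.prod_mul_distrib])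

@[simp]
theorem lift3_s {S : Type w} [CommRing S] [Algebra k S] (g : Fin 3 → (A →ₐ[k] S)) (i : Fin 3) (a : A) :
    lift3 k A g (s k A i a) = g i a := by
  fin_cases i <;> simp [lift3, s, Fin.prod_univ_three]

def diagIdeal (i j : Fin 3) : Ideal C := Ideal.span (Set.range fun a : A => s k A i a - s k A j a)

/-- `a ⊗ b ↦ aᵢ bⱼ`. -/
def pair (i j : Fin 3) : P →ₐ[k] C :=
  Algebra.TensorProduct.lift (s k A i) (s k A j) fun _ _ => Commute.all _ _

@[simp]
theorem pair_tmul (i j : Fin 3) (a b : A) : pair k A i j (a ⊗ₜ b) = s k A i a * s k A j b := by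
  simp [pair]

theorem diagIdeal_comm (i j : Fin 3) : diagIdeal k A i j = diagIdeal k A j i := by
  have : ∀ i j, diagIdeal k A i j ≤ diagIdeal k A j i := fun i j => Ideal.span_le.mpr (by
    rintro _ ⟨a, rfl⟩
    show s k A i a - s k A j a ∈ diagIdeal k A j i
    rw [← neg_sub]
    exact neg_mem (Ideal.subset_span ⟨a, rfl⟩))
  exact le_antisymm (this i j) (this j i)

theorem map_pair (i j : Fin 3) : Ideal.map (pair k A i j) J = diagIdeal k A i j := by
  rw [diagIdeal_comm, ← KaehlerDifferential.span_range_eq_ideal, Ideal.map_span, ← Set.range_comp,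
    diagIdeal]
  congr 2
  funext a
  simp

/-- The retraction onto the diagonal of the two outer factors. -/
def proj : C →ₐ[k] P :=
  lift3 k A ![Algebra.TensorProduct.includeLeft, Algebra.TensorProduct.includeRight,
    Algebra.TensorProduct.includeLeft]

theorem proj_pair (p : P) : proj k A (pair k A 0 1 p) = p ∧ proj k A (pair k A 2 1 p) = p := by
  constructor <;>
  · induction p using TensorProduct.induction_on with
    | zero => simp
    | tmul a b => simp [proj]
    | add a b ha hb => simp only [map_add, ha, hb]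

theorem proj_eq_zero {x : C} (hx : x ∈ diagIdeal k A 0 2) : proj k A x = 0 := by
  refine RingHom.mem_ker.mp ((Ideal.span_le.mpr ?_ : diagIdeal k A 0 2 ≤ RingHom.ker (proj k A)) hx)
  rintro _ ⟨a, rfl⟩
  simp [RingHom.mem_ker, proj]

theorem pair_sub_mem (p : P) : pair k A 2 1 p - pair k A 0 1 p ∈ diagIdeal k A 0 2 := by
  induction p using TensorProduct.induction_on with
  | zero => simp
  | tmul a b =>
    rw [pair_tmul, pair_tmul, ← sub_mul]
    exact Ideal.mul_mem_right _ _ (by rw [diagIdeal_comm]; exact Ideal.subset_span ⟨a, rfl⟩)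
  | add a b ha hb =>
    rw [map_add, map_add, add_sub_add_comm]
    exact add_mem ha hb

theorem sub_proj_mem (c : C) : c - pair k A 0 1 (proj k A c) ∈ diagIdeal k A 0 2 := by
  have h : (Ideal.Quotient.mkₐ k (diagIdeal k A 0 2)).comp ((pair k A 0 1).comp (proj k A)) =
      Ideal.Quotient.mkₐ k (diagIdeal k A 0 2) := by
    refine PiTensorProduct.algHom_ext fun i => AlgHom.ext fun a => ?_
    show Ideal.Quotient.mk _ (pair k A 0 1 (proj k A (s k A i a))) = Ideal.Quotient.mk _ (s k A i a)
    fin_cases i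
    · simp [proj]
    · simp [proj]
    · rw [show proj k A (s k A (⟨2, by omega⟩ : Fin 3) a) = a ⊗ₜ 1 by simp [proj], pair_tmul,
        map_one, mul_one, Ideal.Quotient.eq]
      exact Ideal.subset_span ⟨a, rfl⟩
  exact Ideal.Quotient.eq.mp (DFunLike.congr_fun h c).symm

theorem mem_mul_of_mem_of_mem {x : C} (h01 : x ∈ diagIdeal k A 0 1) (h12 : x ∈ diagIdeal k A 1 2) :
    x ∈ diagIdeal k A 0 1 * diagIdeal k A 1 2 := by
  let e : C →ₐ[k] C := lift3 k A ![s k A 1, s k A 1, s k A 2]
  let e' : C →ₐ[k] C := lift3 k A ![s k A 0, s k A 1, s k A 1]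
  have key : ∀ y : C, y - e' y - e y + e (e' y) ∈ diagIdeal k A 0 1 * diagIdeal k A 1 2 := by
    intro y
    induction y using PiTensorProduct.induction_on with
    | smul_tprod r f =>
      rw [map_smul, map_smul, map_smul, ← smul_sub, ← smul_sub, ← smul_add]
      refine Submodule.smul_of_tower_mem _ r ?_
      rw [tprod_eq_prod]
      have : s k A 0 (f 0) * s k A 1 (f 1) * s k A 2 (f 2) - e' (s k A 0 (f 0) * s k A 1 (f 1) * s k A 2 (f 2))
          - e (s k A 0 (f 0) * s k A 1 (f 1) * s k A 2 (f 2))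
          + e (e' (s k A 0 (f 0) * s k A 1 (f 1) * s k A 2 (f 2))) =
          -(s k A 1 (f 1) * ((s k A 0 (f 0) - s k A 1 (f 0)) * (s k A 1 (f 2) - s k A 2 (f 2)))) := by
        simp [e, e']
        ring
      rw [this]
      exact neg_mem (Ideal.mul_mem_left _ _
        (Ideal.mul_mem_mul (Ideal.subset_span ⟨f 0, rfl⟩) (Ideal.subset_span ⟨f 2, rfl⟩)))
    | add a b ha hb =>
      convert add_mem ha hb using 1
      simp only [map_add]
      abel
  have he : e x = 0 := RingHom.mem_ker.mp ((Ideal.span_le.mpr (by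
    rintro _ ⟨a, rfl⟩
    simp [RingHom.mem_ker, e]) : diagIdeal k A 0 1 ≤ RingHom.ker e) h01)
  have he' : e' x = 0 := RingHom.mem_ker.mp ((Ideal.span_le.mpr (by
    rintro _ ⟨a, rfl⟩
    simp [RingHom.mem_ker, e']) : diagIdeal k A 1 2 ≤ RingHom.ker e') h12)
  simpa [he, he'] using key x

def flip3 : C →ₐ[k] C := lift3 k A ![s k A 2, s k A 1, s k A 0]

theorem reindex_eq_flip (x : C) :
    PiTensorProduct.reindex k (fun _ : Fin 3 => A) (Equiv.swap 0 2) x = flip3 k A x := by
  induction x using PiTensorProduct.induction_on with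
  | smul_tprod r f =>
    rw [map_smul, map_smul]
    congr 1
    rw [PiTensorProduct.reindex_tprod]
    refine (tprod_eq_prod k A _).trans ?_
    rw [tprod_eq_prod]
    rw [Equiv.symm_swap, show (Equiv.swap (0 : Fin 3) 2) 1 = 1 by decide, Equiv.swap_apply_left,
      Equiv.swap_apply_right]
    simp [flip3]
    ring
  | add a b ha hb => simp only [map_add, ha, hb]

theorem flip_pair (p : P) :
    flip3 k A (pair k A 0 1 p) = pair k A 2 1 p ∧ flip3 k A (pair k A 2 1 p) = pair k A 0 1 p := by
  constructor <;>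
  · induction p using TensorProduct.induction_on with
    | zero => simp
    | tmul a b => simp [flip3]
    | add a b ha hb => simp only [map_add, ha, hb]

theorem main [CharZero k] [Algebra.Smooth k A] (x : C)
    (hx : PiTensorProduct.reindex k (fun _ : Fin 3 => A) (Equiv.swap 0 2) x = x)
    (h01 : x ∈ diagIdeal k A 0 1) (h02 : x ∈ diagIdeal k A 0 2) (h12 : x ∈ diagIdeal k A 1 2) :
    x ∈ diagIdeal k A 0 1 * diagIdeal k A 0 2 * diagIdeal k A 1 2 := by
  set I := diagIdeal k A 0 1 * diagIdeal k A 0 2 * diagIdeal k A 1 2 with hI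
  set M := diagIdeal k A 0 1 * diagIdeal k A 1 2 with hM
  have hIM : I = diagIdeal k A 0 2 * M := by rw [hI, hM]; ring
  letI : Algebra P (C ⧸ I) := ((Ideal.Quotient.mk I).comp (pair k A 0 1).toRingHom).toAlgebra
  have h1 : ∀ j : J, pair k A 0 1 (j : P) ∈ diagIdeal k A 0 1 := fun j =>
    map_pair k A 0 1 ▸ Ideal.mem_map_of_mem _ j.2
  have h2 : ∀ j : J, pair k A 2 1 (j : P) ∈ diagIdeal k A 1 2 := fun j => by
    rw [diagIdeal_comm, ← map_pair]
    exact Ideal.mem_map_of_mem _ j.2
  let ψ : J →ₗ[P] J →ₗ[P] C ⧸ I := LinearMap.mk₂ P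
    (fun j j' => Ideal.Quotient.mk I (pair k A 0 1 (j : P) * pair k A 2 1 (j' : P)))
    (fun a b c => by simp only [Submodule.coe_add, map_add, add_mul])
    (fun p a c => by
      rw [Algebra.smul_def, RingHom.algebraMap_toAlgebra, RingHom.comp_apply, ← map_mul]
      simp [mul_assoc])
    (fun a b c => by simp only [Submodule.coe_add, map_add, mul_add])
    (fun p a c => by
      rw [Algebra.smul_def, RingHom.algebraMap_toAlgebra, RingHom.comp_apply, ← map_mul,
        Ideal.Quotient.eq, hIM]
      have := Ideal.mul_mem_mul (pair_sub_mem k A p) (Ideal.mul_mem_mul (h1 a) (h2 c))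
      convert this using 1
      simp
      ring)
  let Ψ := TensorProduct.lift ψ
  -- every element of `M` comes from `J ⊗ J`
  have hsurj : ∀ y ∈ M, ∃ t, Ψ t = Ideal.Quotient.mk I y := by
    intro y hy
    rw [hM, ← map_pair, diagIdeal_comm k A 1 2, ← map_pair, Ideal.map, Ideal.map, Ideal.span_mul_span'] at hy
    induction hy using Submodule.span_induction with
    | mem y hy =>
      obtain ⟨_, ⟨a, ha, rfl⟩, _, ⟨b, hb, rfl⟩, rfl⟩ := hy
      exact ⟨(⟨a, ha⟩ : J) ⊗ₜ (⟨b, hb⟩ : J), rfl⟩
    | zero => exact ⟨0, by simp⟩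
    | add a b _ _ ha hb =>
      obtain ⟨t, ht⟩ := ha
      obtain ⟨t', ht'⟩ := hb
      exact ⟨t + t', by rw [map_add, ht, ht', map_add]⟩
    | smul c y hy ih =>
      obtain ⟨t, ht⟩ := ih
      refine ⟨proj k A c • t, ?_⟩
      rw [map_smul, ht, Algebra.smul_def, RingHom.algebraMap_toAlgebra, RingHom.comp_apply,
        ← map_mul, Ideal.Quotient.eq, hIM]
      have hyM : y ∈ M := by
        rw [hM, ← map_pair, diagIdeal_comm k A 1 2, ← map_pair, Ideal.map, Ideal.map, Ideal.span_mul_span']
        exact hy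
      have := neg_mem (Ideal.mul_mem_mul (sub_proj_mem k A c) hyM)
      convert this using 1
      simp
      ring
  obtain ⟨t, ht⟩ := hsurj x (mem_mul_of_mem_of_mem k A h01 h12)
  -- its product vanishes
  let π : C ⧸ I →+* P := Ideal.Quotient.lift I (proj k A).toRingHom fun a ha =>
    proj_eq_zero k A ((hIM ▸ Ideal.mul_le_inf.trans inf_le_left : I ≤ diagIdeal k A 0 2) ha)
  have hπ : ∀ t, π (Ψ t) = mulJ J t := by
    intro t
    induction t using TensorProduct.induction_on with
    | zero => simp
    | tmul a b =>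
      show proj k A (pair k A 0 1 (a : P) * pair k A 2 1 (b : P)) = (a : P) * b
      rw [map_mul, (proj_pair k A _).1, (proj_pair k A _).2]
    | add a b ha hb => simp only [map_add, ha, hb]
  have hmul : mulJ J t = 0 := by
    rw [← hπ, ht]
    exact proj_eq_zero k A h02
  -- the flip
  have hflipI : I ≤ I.comap (flip3 k A).toRingHom := by
    rw [← Ideal.map_le_iff_le_comap, hI, Ideal.map_mul, Ideal.map_mul]
    have hf : ∀ i j i' j' : Fin 3, (∀ a, flip3 k A (s k A i a) = s k A i' a) →
        (∀ a, flip3 k A (s k A j a) = s k A j' a) →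
        Ideal.map (flip3 k A).toRingHom (diagIdeal k A i j) = diagIdeal k A i' j' := by
      intro i j i' j' hi hj
      rw [diagIdeal, Ideal.map_span, ← Set.range_comp, diagIdeal]
      congr 2
      funext a
      simp [hi, hj]
    rw [hf 0 1 2 1 (fun a => by simp [flip3]) (fun a => by simp [flip3]),
      hf 0 2 2 0 (fun a => by simp [flip3]) (fun a => by simp [flip3]),
      hf 1 2 1 0 (fun a => by simp [flip3]) (fun a => by simp [flip3]),
      diagIdeal_comm k A 2 1, diagIdeal_comm k A 2 0, diagIdeal_comm k A 1 0]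
    exact le_of_eq (by ring)
  let σ : C ⧸ I →+* C ⧸ I := Ideal.quotientMap I (flip3 k A).toRingHom hflipI
  have hσ : ∀ t, σ (Ψ t) = Ψ (TensorProduct.comm _ _ _ t) := by
    intro t
    induction t using TensorProduct.induction_on with
    | zero => simp
    | tmul a b =>
      show Ideal.Quotient.mk I (flip3 k A (pair k A 0 1 (a : P) * pair k A 2 1 (b : P))) =
        Ideal.Quotient.mk I (pair k A 0 1 (b : P) * pair k A 2 1 (a : P))
      rw [map_mul (flip3 k A), (flip_pair k A _).1, (flip_pair k A _).2, mul_comm]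
    | add a b ha hb => simp only [map_add, ha, hb]
  have hfix : σ (Ideal.Quotient.mk I x) = Ideal.Quotient.mk I x := by
    show Ideal.Quotient.mk I (flip3 k A x) = _
    rw [← reindex_eq_flip, hx]
  have h0 := congrArg Ψ (anti_diag k A t hmul)
  rw [map_add, map_zero, ← hσ, ht, hfix, ← two_smul k] at h0
  rw [← Ideal.Quotient.eq_zero_iff_mem]
  exact (smul_eq_zero.mp h0).resolve_left two_ne_zero

end Groth.Agent.DiagThreeLib
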